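import Groth.Agent.HilbLoc.Flat
import Groth.Agent.InvBasic.QCoh
import Groth.Prelude.Def_Mor2
import Groth.Prelude.Def_Omega2

/-!
# Moving a closed immersion to the subscheme of its kernel
-/

set_option autoImplicit false
set_option linter.unusedSectionVars false
universe u

open CategoryTheory CategoryTheory.Limits AlgebraicGeometry

namespace Groth.Agent.HilbLoc.Rep

variable {X Y : Scheme.{u}}

/-- Pullback along an isomorphism. -/
noncomputable def pullEquiv {Z : Scheme.{u}} (e : Y ≅ Z) : Z.Modules ≌ Y.Modules :=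
  CategoryTheory.Equivalence.mk (Scheme.Modules.pullback e.hom) (Scheme.Modules.pullback e.inv)
    ((Scheme.Modules.pullbackId Z).symm ≪≫ eqToIso (by rw [e.inv_hom_id]) ≪≫
      (Scheme.Modules.pullbackComp e.inv e.hom).symm)
    (Scheme.Modules.pullbackComp e.hom e.inv ≪≫ eqToIso (by rw [e.hom_inv_id]) ≪≫
      Scheme.Modules.pullbackId Y)

/-- Splitting is detected after an equivalence. -/
theorem exists_retraction_of_equivalence {C : Type (u + 1)} [Category.{u} C] [Abelian C] {D : Type (u + 1)}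
    [Category.{u} D] [Abelian D] [HasExt.{u} D] (F : C ⥤ D) [F.Additive] [F.Full] [F.Faithful]
    [PreservesFiniteLimits F] [PreservesFiniteColimits F] {P M N : C} (a : P ⟶ M) (b : M ⟶ N) (w : a ≫ b = 0)
    (hS : (ShortComplex.mk a b w).ShortExact) {P' N' : D} (eP : F.obj P ≅ P') (eN : F.obj N ≅ N')
    (h : Subsingleton (Abelian.Ext.{u} N' P' 1)) : ∃ r : M ⟶ P, a ≫ r = 𝟙 P := by
  have hw : (eP.inv ≫ F.map a) ≫ F.map b ≫ eN.hom = 0 := by
    rw [Category.assoc, ← Category.assoc (F.map a), ← F.map_comp, w, Functor.map_zero, zero_comp, comp_zero]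
  have hS' : (ShortComplex.mk (eP.inv ≫ F.map a) (F.map b ≫ eN.hom) hw).ShortExact := by
    refine ShortComplex.shortExact_of_iso ?_ (hS.map_of_exact F)
    refine ShortComplex.isoMk eP (Iso.refl _) eN ?_ ?_
    · exact (Iso.hom_inv_id_assoc eP (F.map a)).trans (Category.comp_id _).symm
    · exact Category.id_comp _
  obtain ⟨r, hr⟩ := Groth.Agent.HilbLoc.exists_retraction _ _ hw hS' h
  refine ⟨F.preimage (r ≫ eP.inv), F.map_injective ?_⟩
  rw [F.map_comp, F.map_preimage, F.map_id, ← cancel_epi eP.inv, ← Category.assoc, ← Category.assoc, hr]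
  simp

theorem isRegularClosedImmersion_subschemeι (i : Y ⟶ X) (h : Mor2.IsRegularClosedImmersion i) :
    Mor2.IsRegularClosedImmersion i.ker.subschemeι := by
  haveI := h.1
  refine ⟨inferInstance, fun z => ?_⟩
  obtain ⟨U, hU, hz, rs, hrs, he⟩ := h.2 ((asIso i.toImage).inv z)
  refine ⟨U, hU, ?_, rs, hrs, by rw [Scheme.IdealSheafData.ker_subschemeι]; exact he⟩
  have h1 : (asIso i.toImage).inv ≫ i = i.ker.subschemeι :=
    (Iso.inv_comp_eq (asIso i.toImage)).2 i.toImage_imageι.symm
  rw [← h1]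
  exact hz

end Groth.Agent.HilbLoc.Rep
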