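import Groth.Agent.ArtFunLib.Tangent
import Groth.Agent.DefAffHull.HullDim
import Groth.Agent.PP16Lib.CompletionEquiv
import Mathlib.RingTheory.AdicCompletion.LocalRing

/-!
# A local ring representing a functor of Artin rings
-/

set_option autoImplicit false
set_option linter.unusedSectionVars false
set_option backward.isDefEq.respectTransparency false
universe u v

open CategoryTheory ArtFun ArtFun.Art ArtFun.CRing IsLocalRing
open Groth.Agent.ArtFunLib Groth.Agent.DefAffHull

namespace Groth.Agent.HilbLoc.Rep

variable {k : Type u} [Field k] {R : Type u} [CommRing R] [IsLocalRing R] [IsNoetherianRing R] [Algebra k R]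
variable (res : R →ₐ[k] k)

theorem mem_maximalIdeal_iff_res (r : R) : r ∈ maximalIdeal R ↔ res r = 0 := by
  have h : maximalIdeal R = RingHom.ker res :=
    (IsLocalRing.eq_maximalIdeal (RingHom.ker_isMaximal_of_surjective res fun c =>
      ⟨algebraMap k R c, res.commutes c⟩)).symm
  rw [h, RingHom.mem_ker]

theorem sub_res_mem (r : R) : r - algebraMap k R (res r) ∈ maximalIdeal R := by
  rw [mem_maximalIdeal_iff_res res, map_sub, res.commutes, Algebra.algebraMap_self_apply, sub_self]

theorem hom_res {A : Art k k} (φ : HomSet R res A) (r : R) : A.res (φ.1 r) = res r :=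
  DFunLike.congr_fun φ.2 r

/-- The class of `r - res r` in `m/m²`. -/
noncomputable def dcl (r : R) : CotangentSpace R :=
  (maximalIdeal R).toCotangent ⟨r - algebraMap k R (res r), sub_res_mem res r⟩

theorem dcl_add (r s : R) : dcl res (r + s) = dcl res r + dcl res s := by
  rw [dcl, dcl, dcl, ← map_add]
  congr 1
  refine Subtype.ext ?_
  change r + s - algebraMap k R (res (r + s)) = r - _ + (s - _)
  rw [map_add, map_add]
  ring

theorem dcl_of_mem {r : R} (hr : r ∈ maximalIdeal R) : dcl res r = (maximalIdeal R).toCotangent ⟨r, hr⟩ := by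
  rw [dcl]
  congr 1
  refine Subtype.ext ?_
  change r - algebraMap k R (res r) = r
  rw [(mem_maximalIdeal_iff_res res r).1 hr, map_zero, sub_zero]

theorem dcl_mul (r s : R) :
    dcl res (r * s) = algebraMap k R (res r) • dcl res s + algebraMap k R (res s) • dcl res r := by
  simp only [dcl, ← map_smul, ← map_add, Ideal.toCotangent_eq, pow_two]
  change r * s - algebraMap k R (res (r * s)) - (algebraMap k R (res r) * (s - algebraMap k R (res s)) +
    algebraMap k R (res s) * (r - algebraMap k R (res r))) ∈ _
  have h := Ideal.mul_mem_mul (sub_res_mem res r) (sub_res_mem res s)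
  convert h using 1
  rw [map_mul, map_mul]
  ring

theorem residue_algebraMap_res (r : R) : residue R (algebraMap k R (res r)) = residue R r := by
  refine (sub_eq_zero.1 ?_).symm
  rw [← map_sub, residue_eq_zero_iff]
  exact sub_res_mem res r

/-- The tautological map to `k ⊕ (m/m²)`. -/
theorem exists_coord :
    ∃ (d : ℕ) (c : HomSet R res (dualN k k d)) (x : Fin d → R),
      Module.finrank (ResidueField R) (CotangentSpace R) = d ∧
      (∀ i, c.1 (x i) = (TrivSqZeroExt.inr (Pi.single i (1 : k)) : TrivSqZeroExt k (Fin d → k))) ∧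
      ∀ χ : HomSet R res (dual k k), ∃ l, HomSet.map (tN l) c = χ := by
  classical
  let d := Module.finrank (ResidueField R) (CotangentSpace R)
  let b : Module.Basis (Fin d) (ResidueField R) (CotangentSpace R) := Module.finBasis _ _
  choose y hy using fun i => (maximalIdeal R).toCotangent_surjective (b i)
  let σ : ResidueField R → k := fun z => res (residue_surjective (R := R) z).choose
  have hσ : ∀ r, σ (residue R r) = res r := fun r => by
    have h := (residue_surjective (R := R) (residue R r)).choose_spec
    rw [← sub_eq_zero, ← map_sub, residue_eq_zero_iff] at h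
    rw [← sub_eq_zero, ← map_sub]
    exact (mem_maximalIdeal_iff_res res _).1 h
  let co : R → Fin d → k := fun r i => σ (b.repr (dcl res r) i)
  have hσadd : ∀ z w, σ (z + w) = σ z + σ w := fun z w => by
    obtain ⟨z, rfl⟩ := residue_surjective (R := R) z
    obtain ⟨w, rfl⟩ := residue_surjective (R := R) w
    rw [← map_add, hσ, hσ, hσ, map_add]
  have hσmul : ∀ (z : R) w, σ (residue R z * w) = res z * σ w := fun z w => by
    obtain ⟨w, rfl⟩ := residue_surjective (R := R) w
    rw [← map_mul, hσ, hσ, map_mul]
  have hsmul : ∀ (r : R) (z : CotangentSpace R), r • z = residue R r • z := fun r z => rfl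
  have hco_add : ∀ r s, co (r + s) = co r + co s := fun r s => funext fun i => by
    simp only [co, dcl_add, map_add, Finsupp.add_apply, hσadd, Pi.add_apply]
  have hco_mul : ∀ r s, co (r * s) = res r • co s + res s • co r := fun r s => funext fun i => by
    simp only [co, dcl_mul, hsmul, map_add, map_smul, Finsupp.add_apply, Finsupp.smul_apply, smul_eq_mul,
      hσadd, hσmul, Pi.add_apply, Pi.smul_apply, res.commutes, Algebra.algebraMap_self_apply]
  have hco_alg : ∀ c : k, co (algebraMap k R c) = 0 := fun c => funext fun i => by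
    have h : dcl res (algebraMap k R c) = 0 := by
      rw [dcl, Ideal.toCotangent_eq_zero]
      simp [res.commutes]
    simp only [co, h, map_zero, Finsupp.zero_apply, Pi.zero_apply]
    rw [← map_zero (residue R), hσ, map_zero]
  have hco0 : co 0 = 0 := by rw [← map_zero (algebraMap k R), hco_alg]
  have hco1 : co 1 = 0 := by rw [← map_one (algebraMap k R), hco_alg]
  let c : R →ₐ[k] TrivSqZeroExt k (Fin d → k) :=
    { toFun := fun r => (res r, co r)
      map_one' := TrivSqZeroExt.ext (map_one res) hco1
      map_mul' := fun r s => TrivSqZeroExt.ext (map_mul res r s) (by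
        rw [TrivSqZeroExt.snd_mul, op_smul_eq_smul]
        exact hco_mul r s)
      map_zero' := TrivSqZeroExt.ext (map_zero res) hco0
      map_add' := fun r s => TrivSqZeroExt.ext (map_add res r s) (hco_add r s)
      commutes' := fun a => TrivSqZeroExt.ext (res.commutes a) (hco_alg a) }
  let cc : HomSet R res (dualN k k d) := ⟨c, AlgHom.ext fun r => rfl⟩
  have hcy : ∀ i, co (y i).1 = Pi.single i (1 : k) := fun i => funext fun j => by
    simp only [co, dcl_of_mem res (y i).2, Subtype.coe_eta, hy, Module.Basis.repr_self, Finsupp.single_apply]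
    rcases eq_or_ne i j with rfl | hne
    · rw [if_pos rfl, Pi.single_eq_same, ← map_one (residue R), hσ, map_one]
    · rw [if_neg hne, Pi.single_eq_of_ne (Ne.symm hne), ← map_zero (residue R), hσ, map_zero]
  refine ⟨d, cc, fun i => (y i).1, rfl, fun i => ?_, fun χ => ?_⟩
  · exact TrivSqZeroExt.ext ((mem_maximalIdeal_iff_res res _).1 (y i).2) (hcy i)
  let l : (Fin d → k) →ₗ[k] k := (Pi.basisFun k (Fin d)).constr k fun i => sndD (χ.1 (y i).1)
  refine ⟨l, Subtype.ext (AlgHom.ext fun r => ?_)⟩
  let δ : R → k := fun r => sndD (χ.1 r) - l (co r)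
  suffices δ r = 0 by
    refine TrivSqZeroExt.ext (hom_res res χ r).symm ?_
    exact (sub_eq_zero.1 this).symm
  have hfst : ∀ r, TrivSqZeroExt.fst (R := k) (χ.1 r) = res r := fun r => hom_res res χ r
  have hδmul : ∀ r s, δ (r * s) = res r * δ s + res s * δ r := fun r s => by
    have h : sndD (χ.1 (r * s)) = res r * sndD (χ.1 s) + res s * sndD (χ.1 r) := by
      rw [map_mul]
      refine (TrivSqZeroExt.snd_mul (R := k) (M := k) _ _).trans ?_
      rw [op_smul_eq_smul, hfst, hfst]
      rfl
    simp only [δ, h, hco_mul, map_add, map_smul, smul_eq_mul]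
    ring
  have hδadd : ∀ r s, δ (r + s) = δ r + δ s := fun r s => by
    simp only [δ, hco_add, map_add]
    rw [show sndD (χ.1 r + χ.1 s) = sndD (χ.1 r) + sndD (χ.1 s) from rfl]
    ring
  have hδalg : ∀ a : k, δ (algebraMap k R a) = 0 := fun a => by
    simp only [δ, hco_alg, map_zero, sub_zero, AlgHom.commutes]
    rfl
  have hδy : ∀ i, δ (y i).1 = 0 := fun i => by
    simp only [δ, hcy, l]
    rw [← Pi.basisFun_apply (R := k), Module.Basis.constr_basis, sub_self]
  let K : Ideal R :=
    { carrier := {r | r ∈ maximalIdeal R ∧ δ r = 0}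
      add_mem' := fun {a b} ha hb => ⟨add_mem ha.1 hb.1, by rw [hδadd, ha.2, hb.2, add_zero]⟩
      zero_mem' := ⟨zero_mem _, by rw [← map_zero (algebraMap k R), hδalg]⟩
      smul_mem' := fun a {b} hb => ⟨Ideal.mul_mem_left _ a hb.1, by
        rw [smul_eq_mul, hδmul, hb.2, (mem_maximalIdeal_iff_res res b).1 hb.1, mul_zero, zero_mul, add_zero]⟩ }
  have hK : maximalIdeal R ≤ K := by
    refine Submodule.le_of_le_smul_of_le_jacobson_bot (I := maximalIdeal R) (maximalIdeal R).fg_of_isNoetherianRing
      (IsLocalRing.maximalIdeal_le_jacobson _) fun z hz => ?_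
    have h1 := b.sum_repr ((maximalIdeal R).toCotangent ⟨z, hz⟩)
    choose a ha using fun i => residue_surjective (R := R) (b.repr ((maximalIdeal R).toCotangent ⟨z, hz⟩) i)
    have h2 : (maximalIdeal R).toCotangent (∑ i, a i • y i) = (maximalIdeal R).toCotangent ⟨z, hz⟩ := by
      rw [map_sum, ← h1]
      refine Finset.sum_congr rfl fun i _ => ?_
      rw [map_smul, hy, hsmul, ha]
    rw [Ideal.toCotangent_eq] at h2
    refine Submodule.mem_sup.2 ⟨∑ i, a i * (y i : R),
      K.sum_mem fun i _ => K.mul_mem_left (a i) ⟨(y i).2, hδy i⟩, z - ∑ i, a i * (y i : R), ?_,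
      add_sub_cancel _ _⟩
    rw [smul_eq_mul, ← pow_two, ← neg_sub, neg_mem_iff]
    simpa [Submodule.coe_sum] using h2
  have h3 : δ (r - algebraMap k R (res r)) = 0 := (hK (sub_res_mem res r)).2
  calc δ r = δ (r - algebraMap k R (res r) + algebraMap k R (res r)) := by rw [sub_add_cancel]
    _ = 0 := by rw [hδadd, h3, hδalg, add_zero]

variable {res} {F : Art k k ⥤ Type v} (ξ : Family R res F)

theorem finrank_cotangent_eq (hξ : ∀ A, Function.Bijective (ξ.app A)) [TangentStr F] :
    Module.finrank (ResidueField R) (CotangentSpace R) = Module.finrank k (TangentSpace F) := by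
  obtain ⟨d, c, x, hd, hx, hl⟩ := exists_coord res
  have hb : Function.Bijective (tangentLin (F := F) (ξ.app _ c)) := by
    refine ⟨fun l l' h => ?_, fun y => ?_⟩
    · have h' : ξ.app _ (HomSet.map (tN l) c) = ξ.app _ (HomSet.map (tN l') c) := by
        rw [ξ.natural, ξ.natural]
        exact h
      have h2 := (hξ _).1 h'
      refine (Pi.basisFun k (Fin d)).ext fun i => ?_
      have h3 : tN l (c.1 (x i)) = tN l' (c.1 (x i)) := DFunLike.congr_fun (congrArg Subtype.val h2) _
      rw [hx i] at h3
      rw [Pi.basisFun_apply]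
      exact congrArg (TrivSqZeroExt.snd (R := k)) h3
    · obtain ⟨χ, hχ⟩ := (hξ _).2 y
      obtain ⟨l, rfl⟩ := hl χ
      exact ⟨l, (ξ.natural _ _).symm.trans hχ⟩
  rw [hd, ← (LinearEquiv.ofBijective _ hb).finrank_eq, Module.finrank_linearMap, Module.finrank_fin_fun,
    Module.finrank_self, mul_one]

variable (res) in
/-- The completed local ring as a coefficient ring. -/
@[reducible] noncomputable def completion : CRing k k where
  carrier := AdicCompletion (maximalIdeal R) R
  isNoetherianRing := S0543.result R (maximalIdeal R)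
  res := (Ideal.Quotient.liftₐ (maximalIdeal R ^ 1) res fun r hr => by
    rw [pow_one] at hr; exact (mem_maximalIdeal_iff_res res r).1 hr).comp
      ((AdicCompletion.evalₐ (maximalIdeal R) 1).restrictScalars k)
  res_surjective := fun a => ⟨algebraMap k _ a, AlgHom.commutes _ a⟩
  isAdicComplete := inferInstance

theorem mem_pow_iff (N : ℕ) (z : AdicCompletion (maximalIdeal R) R) :
    z ∈ maximalIdeal (AdicCompletion (maximalIdeal R) R) ^ N ↔ AdicCompletion.evalₐ (maximalIdeal R) N z = 0 := by
  have h : z ∈ maximalIdeal (AdicCompletion (maximalIdeal R) R) ^ N ↔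
      AdicCompletion.eval (maximalIdeal R) R N z = 0 := by
    rw [AdicCompletion.maximalIdeal_eq_map, ← Ideal.map_pow, ← Submodule.restrictScalars_mem R,
      ← Ideal.smul_top_eq_map, AdicCompletion.pow_smul_top_eq_ker_eval (maximalIdeal R).fg_of_isNoetherianRing,
      LinearMap.mem_ker]
  rw [h, ← AdicCompletion.factor_eval_eq_evalₐ _ _ (le_of_eq (Ideal.mul_top _))]
  obtain ⟨r, hr⟩ := Submodule.Quotient.mk_surjective _ (AdicCompletion.eval (maximalIdeal R) R N z)
  rw [← hr, Submodule.Quotient.mk_eq_zero]
  change _ ↔ Ideal.Quotient.mk _ r = 0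
  rw [Ideal.Quotient.eq_zero_iff_mem]
  exact ⟨fun h => by simpa using h, fun h => by simpa using h⟩

theorem completion_res_algebraMap (r : R) :
    (completion res).res (algebraMap R (AdicCompletion (maximalIdeal R) R) r) = res r :=
  (congrArg (Ideal.Quotient.liftₐ (maximalIdeal R ^ 1) res fun r hr => (mem_maximalIdeal_iff_res res r).1
    (by rwa [pow_one] at hr)) (AlgHom.commutes (AdicCompletion.evalₐ (maximalIdeal R) 1) r)).trans rfl

/-- Restriction to the local ring. -/
noncomputable def restrict {A : Art k k} (ψ : HomSet (completion res).carrier (completion res).res A) :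
    HomSet R res A :=
      ⟨ψ.1.comp (IsScalarTower.toAlgHom k R (AdicCompletion (maximalIdeal R) R)), AlgHom.ext fun r => by
        refine (homSet_res ψ (IsScalarTower.toAlgHom k R (AdicCompletion (maximalIdeal R) R) r : (completion res).carrier)).trans ?_
        exact completion_res_algebraMap (res := res) r⟩

theorem restrict_map {A B : Art k k} (f : A ⟶ B) (ψ : HomSet (completion res).carrier (completion res).res A) :
    restrict (HomSet.map f ψ) = HomSet.map f (restrict ψ) := rfl

theorem bijective_restrict (A : Art k k) :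
    Function.Bijective (restrict (res := res) (A := A)) := by
  obtain ⟨e, he⟩ := isNilpotent_maximalIdeal A
  refine ⟨fun ψ ψ' h => Subtype.ext (AlgHom.ext fun z => ?_), fun φ => ?_⟩
  · have hkill : ∀ (χ : HomSet (completion res).carrier (completion res).res A),
        ∀ w ∈ maximalIdeal (completion res).carrier ^ e, χ.1 w = 0 := fun χ w hw => by
      have hle : (maximalIdeal (completion res).carrier).map χ.1 ≤ maximalIdeal A :=
        Ideal.map_le_iff_le_comap.2 fun a ha => Ideal.mem_comap.2 ((Art.mem_maximalIdeal_iff A _).2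
          ((homSet_res χ a).trans ((CRing.mem_maximalIdeal_iff _ a).1 ha)))
      have := Ideal.pow_right_mono hle e (by rw [← Ideal.map_pow]; exact Ideal.mem_map_of_mem χ.1 hw)
      rwa [he, Ideal.mem_bot] at this
    obtain ⟨r, hr⟩ := Ideal.Quotient.mk_surjective (AdicCompletion.evalₐ (maximalIdeal R) e z)
    have hm : z - algebraMap R (AdicCompletion (maximalIdeal R) R) r ∈
        maximalIdeal (completion res).carrier ^ e := (mem_pow_iff e _).2 (by
      rw [map_sub, AlgHom.commutes, ← hr]
      exact sub_self _)
    have h1 := hkill ψ _ hm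
    have h2 := hkill ψ' _ hm
    rw [map_sub, sub_eq_zero] at h1 h2
    rw [h1, h2]
    exact DFunLike.congr_fun (congrArg Subtype.val h) r
  · have hk : ∀ r ∈ maximalIdeal R ^ e, φ.1 r = 0 := fun r hr => by
      have hle : (maximalIdeal R).map φ.1 ≤ maximalIdeal A := Ideal.map_le_iff_le_comap.2 fun a ha =>
        Ideal.mem_comap.2 ((Art.mem_maximalIdeal_iff A _).2 ((hom_res res φ a).trans
          ((mem_maximalIdeal_iff_res res a).1 ha)))
      have := Ideal.pow_right_mono hle e (by rw [← Ideal.map_pow]; exact Ideal.mem_map_of_mem φ.1 hr)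
      rwa [he, Ideal.mem_bot] at this
    let χ : AdicCompletion (maximalIdeal R) R →ₐ[k] A :=
      (Ideal.Quotient.liftₐ (maximalIdeal R ^ e) φ.1 hk).comp
        ((AdicCompletion.evalₐ (maximalIdeal R) e).restrictScalars k)
    have hχ : ∀ r, χ (algebraMap R (AdicCompletion (maximalIdeal R) R) r) = φ.1 r := fun r =>
      (congrArg (Ideal.Quotient.liftₐ (maximalIdeal R ^ e) φ.1 hk)
        (AlgHom.commutes (AdicCompletion.evalₐ (maximalIdeal R) e) r)).trans rfl
    refine ⟨⟨χ, AlgHom.ext fun z => ?_⟩, Subtype.ext (AlgHom.ext hχ)⟩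
    obtain ⟨r, hr⟩ := Ideal.Quotient.mk_surjective (AdicCompletion.evalₐ (maximalIdeal R) (e + 1) z)
    have hm := (mem_pow_iff (e + 1) (z - algebraMap R (AdicCompletion (maximalIdeal R) R) r)).2 (by
      rw [map_sub, AlgHom.commutes, ← hr]
      exact sub_self _)
    have he0 : χ (z - algebraMap R _ r) = 0 := by
      have h2 := (mem_pow_iff e _).1 (Ideal.pow_le_pow_right e.le_succ hm)
      exact (congrArg (Ideal.Quotient.liftₐ (maximalIdeal R ^ e) φ.1 hk) h2).trans (map_zero _)
    rw [map_sub, sub_eq_zero] at he0
    have h3 : (completion res).res (z - algebraMap R (AdicCompletion (maximalIdeal R) R) r) = 0 :=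
      (CRing.mem_maximalIdeal_iff (completion res) _).1 (Ideal.pow_le_self e.succ_ne_zero hm)
    rw [map_sub, sub_eq_zero] at h3
    change A.res (χ z) = _
    rw [he0, hχ, h3, hom_res res φ]
    exact (completion_res_algebraMap (res := res) r).symm

theorem regular_of_smooth (hξ : ∀ A, Function.Bijective (ξ.app A)) [TangentStr F] (hF : IsSmoothFunctor F) :
    IsRegularLocalRing R ∧ ringKrullDim R = (Module.finrank k (TangentSpace F) : WithBot ℕ∞) := by
  let H : Hull F :=
    { ring := completion res
      family :=
        { app := fun A ψ => ξ.app A (restrict ψ)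
          natural := fun {A B} f ψ => by rw [restrict_map, ξ.natural] }
      miniversal := ⟨fun B A μ hμ φ y hy => by
          obtain ⟨ψ, hψ⟩ := ((hξ B).comp (bijective_restrict (res := res) B)).2 y
          refine ⟨ψ, ((hξ A).comp (bijective_restrict (res := res) A)).1 ?_, hψ⟩
          refine Eq.trans ?_ hy
          rw [← hψ, Function.comp_apply, Function.comp_apply, restrict_map, ξ.natural],
        (hξ _).comp (bijective_restrict (res := res) _)⟩ }
  obtain ⟨d, Q, Φ, c, hΦ, hΦs, hsq, -, -⟩ := exists_presentation H.ring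
  have hJ := ker_eq_bot_of_smooth H (Φ := Φ) hΦ hΦs hsq hF
  let e := AlgEquiv.ofBijective Φ ⟨(RingHom.injective_iff_ker_eq_bot Φ.toRingHom).2 hJ, hΦs⟩
  haveI : IsRegularLocalRing (MvPowerSeries (Fin d) (kRing k).carrier) :=
    PP16Lib.isRegularLocalRing_mvPowerSeries d k
  haveI : IsRegularLocalRing Q.ring.carrier := IsRegularLocalRing.of_ringEquiv Q.e.toRingEquiv.symm
  have hS : IsRegularLocalRing (AdicCompletion (maximalIdeal R) R) :=
    IsRegularLocalRing.of_ringEquiv e.toRingEquiv
  have hR := PP16Lib.isRegularLocalRing_iff_completion.2 hS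
  refine ⟨hR, ?_⟩
  rw [← finrank_cotangent_eq ξ hξ]
  exact ((IsRegularLocalRing.iff_finrank_cotangentSpace R).1 hR).symm

end Groth.Agent.HilbLoc.Rep
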