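import Groth.Agent.HilbLoc.Rep.LocalDim
import Groth.Agent.HilbLoc.Conditions
import Groth.Prelude.Def_FGA

/-!
# The local ring of a Hilbert scheme at a rational point represents the local Hilbert functor
-/

set_option autoImplicit false
set_option linter.unusedSectionVars false
set_option backward.isDefEq.respectTransparency false
set_option maxHeartbeats 1000000
universe u

open CategoryTheory CategoryTheory.Limits AlgebraicGeometry IsLocalRing ArtFun

namespace Groth.Agent.HilbLoc.Rep

variable {k : Type u} [Field k] {X : Scheme.{u}} (x : X ⟶ Spec (CommRingCat.of k))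

/-- `Spec A` as an object over `Spec k`. -/
noncomputable abbrev specO (A : Art k k) : Over (Spec (CommRingCat.of k)) :=
  Over.mk (show Spec (CommRingCat.of A) ⟶ Spec (CommRingCat.of k) from Art.specOver A)

/-- The point `Spec k`. -/
noncomputable abbrev onePt : Over (Spec (CommRingCat.of k)) := Over.mk (𝟙 (Spec (CommRingCat.of k)))

/-- The closed point of `Spec A`. -/
noncomputable def ptO (A : Art k k) : onePt (k := k) ⟶ specO A :=
  Over.homMk (Spec.map (CommRingCat.ofHom A.res.toRingHom)) (by
    change Spec.map _ ≫ Spec.map _ = 𝟙 _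
    rw [← Spec.map_comp, ← CommRingCat.ofHom_comp]
    refine (congrArg (fun f => Spec.map (CommRingCat.ofHom f)) (RingHom.ext fun c => ?_)).trans
      (Spec.map_id _)
    exact A.res.commutes c)

/-- The map on `Spec` of a morphism. -/
noncomputable def mapO {A B : Art k k} (g : A ⟶ B) : specO B ⟶ specO A :=
  Over.homMk (Art.specMap g) (Art.specOver_comp g)

theorem hilbPull_eq {T T' : Over (Spec (CommRingCat.of k))} (g : T' ⟶ T)
    (I : (PicF.XT x T).IdealSheafData) : FGA.hilbPull x g I = I.comap (PicF.XTmap x g) := by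
  rw [FGA.hilbPull, Scheme.IdealSheafData.comap, ← pullbackSymmetry_hom_comp_fst,
    Scheme.Hom.ker_comp_of_isIso]

theorem XTmap_comp {T T' T'' : Over (Spec (CommRingCat.of k))} (g : T'' ⟶ T') (g' : T' ⟶ T) :
    PicF.XTmap x (g ≫ g') = PicF.XTmap x g ≫ PicF.XTmap x g' := by
  apply pullback.hom_ext
  · rw [Category.assoc]
    simp [PicF.XTmap]
  · simp [PicF.XTmap]

theorem hilbPull_comp {T T' T'' : Over (Spec (CommRingCat.of k))} (g : T'' ⟶ T') (g' : T' ⟶ T)
    (I : (PicF.XT x T).IdealSheafData) :
    FGA.hilbPull x (g ≫ g') I = FGA.hilbPull x g (FGA.hilbPull x g' I) := by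
  rw [hilbPull_eq, hilbPull_eq, hilbPull_eq, XTmap_comp, Scheme.IdealSheafData.comap_comp]

theorem XTmap_mapO {A B : Art k k} (g : A ⟶ B) : PicF.XTmap x (mapO g) = Art.XAmap x g := rfl

theorem XTmap_ptO (A : Art k k) :
    PicF.XTmap x (ptO A) = pullback.fst x (onePt (k := k)).hom ≫ Art.XAincl x A := by
  apply pullback.hom_ext
  · refine Eq.trans ?_ (Category.assoc _ _ _).symm
    refine Eq.trans ?_ (congrArg (pullback.fst x (onePt (k := k)).hom ≫ ·) (Art.XAincl_fst x A)).symm
    exact pullback.lift_fst _ _ _
  · refine Eq.trans ?_ (Category.assoc _ _ _).symm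
    refine Eq.trans ?_ (congrArg (pullback.fst x (onePt (k := k)).hom ≫ ·) (Art.XAincl_snd x A)).symm
    refine (pullback.lift_snd _ _ _).trans ?_
    refine Eq.trans ?_ (Category.assoc _ _ _)
    exact congrArg (fun m => m ≫ Spec.map (CommRingCat.ofHom A.res.toRingHom))
      ((pullback.condition (f := x) (g := (onePt (k := k)).hom)).trans (Category.comp_id _)).symm

theorem flat_comap_XTmap {T T' : Over (Spec (CommRingCat.of k))} (u : T' ⟶ T)
    (I : (PicF.XT x T).IdealSheafData) (hI : Flat (I.subschemeι ≫ pullback.snd x T.hom)) :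
    Flat ((I.comap (PicF.XTmap x u)).subschemeι ≫ pullback.snd x T'.hom) := by
  have sqX : IsPullback (PicF.XTmap x u) (pullback.snd x T'.hom) (pullback.snd x T.hom) u.left := by
    refine IsPullback.of_right ?_ (pullback.lift_snd _ _ _) (IsPullback.of_hasPullback x T.hom)
    convert IsPullback.of_hasPullback x T'.hom using 1
    · exact (pullback.lift_fst _ _ _).trans (Category.comp_id _)
    · exact Over.w u
  have sq := IsPullback.paste_vert
    (IsPullback.of_hasPullback (PicF.XTmap x u) I.subschemeι).flip sqX
  have h := MorphismProperty.of_isPullback (P := @Flat) sq hI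
  rw [← Scheme.IdealSheafData.comapIso_hom_fst, Category.assoc]
  exact (MorphismProperty.cancel_left_of_respectsIso @Flat (I.comapIso (PicF.XTmap x u)).hom _).2 h

theorem comap_fst_injective : Function.Injective
    fun I : X.IdealSheafData => I.comap (pullback.fst x (onePt (k := k)).hom) := by
  intro I I' h
  haveI : IsIso (pullback.fst x (onePt (k := k)).hom) :=
    inferInstanceAs (IsIso (pullback.fst x (𝟙 (Spec (CommRingCat.of k)))))
  have h' := congrArg (fun J : (pullback x (onePt (k := k)).hom).IdealSheafData =>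
    J.comap (inv (pullback.fst x (onePt (k := k)).hom))) h
  simpa only [← Scheme.IdealSheafData.comap_comp, IsIso.inv_hom_id, Scheme.IdealSheafData.comap_id] using h'

variable {H : Over (Spec (CommRingCat.of k))} (y : onePt (k := k) ⟶ H)

/-- The image point. -/
noncomputable abbrev img : H.left := y.left.base (closedPoint k)

/-- The structure of the local ring. -/
noncomputable def kHom : k →+* H.left.presheaf.stalk (img y) :=
  (Spec.preimage (H.left.fromSpecStalk (img y) ≫ H.hom)).hom

/-- The augmentation. -/
noncomputable def resHom : H.left.presheaf.stalk (img y) →+* k :=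
  (Scheme.stalkClosedPointTo (R := CommRingCat.of k) (show Spec (CommRingCat.of k) ⟶ H.left from y.left)).hom

theorem specMap_resHom :
    Spec.map (CommRingCat.ofHom (resHom y)) ≫ H.left.fromSpecStalk (img y) = y.left :=
  Scheme.Spec_stalkClosedPointTo_fromSpecStalk _

theorem resHom_kHom (c : k) : resHom y (kHom y c) = c := by
  have h : Spec.map (CommRingCat.ofHom ((resHom y).comp (kHom y))) = Spec.map (𝟙 (CommRingCat.of k)) := by
    rw [CommRingCat.ofHom_comp, Spec.map_comp, Spec.map_id, show CommRingCat.ofHom (kHom y) =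
      Spec.preimage (H.left.fromSpecStalk (img y) ≫ H.hom) from rfl, Spec.map_preimage, ← Category.assoc,
      specMap_resHom]
    exact Over.w y
  exact RingHom.congr_fun (congrArg CommRingCat.Hom.hom (Spec.map_injective h)) c

theorem exists_eq_specMap {A : Type u} [CommRing A] [IsLocalRing A] (f : Spec (CommRingCat.of A) ⟶ H.left)
    (hf : f.base (closedPoint A) = img y) :
    ∃ φ : H.left.presheaf.stalk (img y) →+* A,
      Spec.map (CommRingCat.ofHom φ) ≫ H.left.fromSpecStalk (img y) = f := by
  generalize img y = p at hf ⊢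
  subst hf
  exact ⟨(Scheme.stalkClosedPointTo f).hom, Scheme.Spec_stalkClosedPointTo_fromSpecStalk f⟩

theorem specMap_fromSpecStalk_injective {A : Type u} [CommRing A]
    {φ φ' : H.left.presheaf.stalk (img y) →+* A}
    (h : Spec.map (CommRingCat.ofHom φ) ≫ H.left.fromSpecStalk (img y) =
      Spec.map (CommRingCat.ofHom φ') ≫ H.left.fromSpecStalk (img y)) : φ = φ' :=
  congrArg CommRingCat.Hom.hom (Spec.map_injective ((cancel_mono _).1 h))

theorem comp_specMap {S : Scheme.{u}} {R A K : Type u} [CommRing R] [CommRing A] [CommRing K]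
    (m : Spec (CommRingCat.of R) ⟶ S) (φ : R →+* A) (r : A →+* K) (res : R →+* K) (h : r.comp φ = res) :
    Spec.map (CommRingCat.ofHom r) ≫ Spec.map (CommRingCat.ofHom φ) ≫ m =
      Spec.map (CommRingCat.ofHom res) ≫ m := by
  subst h
  rw [CommRingCat.ofHom_comp, Spec.map_comp, Category.assoc]

theorem exists_augmentation :
    ∃ (_ : Algebra k (H.left.presheaf.stalk (img y))) (res : H.left.presheaf.stalk (img y) →ₐ[k] k),
      Spec.map (CommRingCat.ofHom (algebraMap k (H.left.presheaf.stalk (img y)))) =
        H.left.fromSpecStalk (img y) ≫ H.hom ∧ res.toRingHom = resHom y := by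
  letI alg : Algebra k (H.left.presheaf.stalk (img y)) := (kHom y).toAlgebra
  exact ⟨alg, { resHom y with commutes' := resHom_kHom y }, Spec.map_preimage _, rfl⟩

theorem exists_universal [IsProper x] (Z : FGA.HilbSet x H) (hH : FGA.HilbRepresentedBy x H Z)
    (I₀ : X.IdealSheafData)
    (hy : FGA.hilbPull x y Z.1 = I₀.comap (pullback.fst x (onePt (k := k)).hom)) :
    ∃ (_ : Algebra k (H.left.presheaf.stalk (img y))) (res : H.left.presheaf.stalk (img y) →ₐ[k] k)
      (ξ : Family (H.left.presheaf.stalk (img y)) res (localHilb X x I₀)), ∀ A, Function.Bijective (ξ.app A) := by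
  obtain ⟨alg, res, hk, hresR⟩ := exists_augmentation y
  have hw : ∀ {A : Art k k} (φ : HomSet (H.left.presheaf.stalk (img y)) res A),
      (Spec.map (CommRingCat.ofHom φ.1.toRingHom) ≫ H.left.fromSpecStalk (img y)) ≫ H.hom = (specO A).hom := by
    intro A φ
    rw [Category.assoc, ← hk, ← Spec.map_comp, ← CommRingCat.ofHom_comp]
    refine congrArg (fun f => Spec.map (CommRingCat.ofHom f)) (RingHom.ext fun c => ?_)
    exact φ.1.commutes c
  let g : ∀ {A : Art k k}, HomSet (H.left.presheaf.stalk (img y)) res A → (specO A ⟶ H) := fun {A} φ =>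
    Over.homMk (Spec.map (CommRingCat.ofHom φ.1.toRingHom) ≫ H.left.fromSpecStalk (img y)) (hw φ)
  have hpt : ∀ {A : Art k k} (φ : HomSet (H.left.presheaf.stalk (img y)) res A), ptO A ≫ g φ = y := by
    intro A φ
    refine Over.OverMorphism.ext ?_
    have hc : A.res.toRingHom.comp φ.1.toRingHom = resHom y :=
      RingHom.ext fun r => (DFunLike.congr_fun φ.2 r).trans (RingHom.congr_fun hresR r)
    exact (comp_specMap (H.left.fromSpecStalk (img y)) _ _ _ hc).trans (specMap_resHom y)
  have hflat : ∀ {A : Art k k} (u : specO A ⟶ H), FlatOver X x A (Z.1.comap (PicF.XTmap x u)) :=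
    fun {A} u => flat_comap_XTmap x u Z.1 Z.2.2
  have hres : ∀ {A : Art k k} (φ : HomSet (H.left.presheaf.stalk (img y)) res A),
      (Z.1.comap (PicF.XTmap x (g φ))).comap (Art.XAincl x A) = I₀ := by
    intro A φ
    apply comap_fst_injective x
    have h := congrArg (fun u => FGA.hilbPull x u Z.1) (hpt φ)
    simp only [hilbPull_eq, XTmap_comp, XTmap_ptO] at h
    rw [hilbPull_eq] at hy
    rw [hy] at h
    dsimp only
    rw [← Scheme.IdealSheafData.comap_comp, ← Scheme.IdealSheafData.comap_comp]
    exact h
  let ξ : Family (H.left.presheaf.stalk (img y)) res (localHilb X x I₀) :=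
    { app := fun A φ => ⟨Z.1.comap (PicF.XTmap x (g φ)), hflat _, hres φ⟩
      natural := fun {A B} f φ => Subtype.ext (by
        change Z.1.comap (PicF.XTmap x (g (HomSet.map f φ))) =
          (Z.1.comap (PicF.XTmap x (g φ))).comap (Art.XAmap x f)
        rw [← XTmap_mapO x f, ← Scheme.IdealSheafData.comap_comp, ← XTmap_comp]
        refine congrArg (fun u => Z.1.comap (PicF.XTmap x u)) (Over.OverMorphism.ext ?_)
        change Spec.map _ ≫ _ = Spec.map _ ≫ Spec.map _ ≫ _
        rw [← Category.assoc, ← Spec.map_comp, ← CommRingCat.ofHom_comp]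
        rfl) }
  refine ⟨alg, res, ξ, fun A => ?_⟩
  haveI : IsNoetherianRing A := inferInstance
  haveI : IsLocallyNoetherian (specO A).left :=
    inferInstanceAs (IsLocallyNoetherian (Spec (CommRingCat.of A)))
  have hmem : ∀ J : (localHilb X x I₀).obj A, IsProper (J.1.subschemeι ≫ pullback.snd x (specO A).hom) ∧
      Flat (J.1.subschemeι ≫ pullback.snd x (specO A).hom) := fun J => by
    haveI : IsProper (pullback.snd x (Art.specOver A)) :=
      MorphismProperty.pullback_snd (P := @IsProper) _ _ inferInstance
    exact ⟨(inferInstance : IsProper (J.1.subschemeι ≫ pullback.snd x (Art.specOver A))), J.2.1⟩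
  refine ⟨fun φ φ' h => ?_, fun J => ?_⟩
  · have h1 : g φ = g φ' := (hH.2 (specO A) ⟨(ξ.app A φ).1, hmem _⟩).unique (hilbPull_eq x _ _)
      ((hilbPull_eq x _ _).trans (congrArg Subtype.val h).symm)
    refine Subtype.ext (AlgHom.coe_ringHom_injective ?_)
    exact specMap_fromSpecStalk_injective y (congrArg CommaMorphism.left h1)
  · obtain ⟨u, hu, -⟩ := hH.2 (specO A) ⟨J.1, hmem J⟩
    haveI : IsLocallyNoetherian (onePt (k := k)).left :=
      inferInstanceAs (IsLocallyNoetherian (Spec (CommRingCat.of k)))
    have hcomp : ptO A ≫ u = y := by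
      have hYy : IsProper ((FGA.hilbPull x y Z.1).subschemeι ≫ pullback.snd x (onePt (k := k)).hom) ∧
          Flat ((FGA.hilbPull x y Z.1).subschemeι ≫ pullback.snd x (onePt (k := k)).hom) := by
        haveI : IsProper (pullback.snd x (onePt (k := k)).hom) :=
          MorphismProperty.pullback_snd (P := @IsProper) _ _ inferInstance
        refine ⟨inferInstance, ?_⟩
        rw [hilbPull_eq]
        exact flat_comap_XTmap x y Z.1 Z.2.2
      refine (hH.2 onePt ⟨_, hYy⟩).unique ?_ rfl
      change _ = FGA.hilbPull x y Z.1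
      rw [hy, hilbPull_eq, XTmap_comp, Scheme.IdealSheafData.comap_comp,
        show Z.1.comap (PicF.XTmap x u) = J.1 from (hilbPull_eq x u Z.1).symm.trans hu, XTmap_ptO,
        Scheme.IdealSheafData.comap_comp, J.2.2]
    have hpt' : u.left.base (closedPoint A) = img y := by
      have h := congrArg (fun v : onePt (k := k) ⟶ H => v.left.base (closedPoint k)) hcomp
      refine Eq.trans ?_ h
      change u.left.base _ = u.left.base ((Spec.map (CommRingCat.ofHom A.res.toRingHom)).base (closedPoint k))
      congr 1
      refine PrimeSpectrum.ext ?_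
      change maximalIdeal A = (maximalIdeal k).comap A.res.toRingHom
      ext a
      rw [Art.mem_maximalIdeal_iff, Ideal.mem_comap, IsLocalRing.maximalIdeal_eq_bot, Ideal.mem_bot]
      rfl
    obtain ⟨φ, hφ⟩ := exists_eq_specMap y u.left hpt'
    have hφk : ∀ c : k, φ (algebraMap k (H.left.presheaf.stalk (img y)) c) = algebraMap k A c := fun c => by
      have h1 : Spec.map (CommRingCat.ofHom (φ.comp (algebraMap k (H.left.presheaf.stalk (img y))))) =
          Spec.map (CommRingCat.ofHom (algebraMap k A)) := by
        rw [CommRingCat.ofHom_comp, Spec.map_comp, hk, ← Category.assoc, hφ]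
        exact (Over.w u).trans (congrArg (fun f => Spec.map (CommRingCat.ofHom f)) (RingHom.ext fun _ => rfl))
      exact RingHom.congr_fun (congrArg CommRingCat.Hom.hom (Spec.map_injective h1)) c
    have hφr : A.res.toRingHom.comp φ = resHom y := by
      refine specMap_fromSpecStalk_injective y ?_
      rw [CommRingCat.ofHom_comp, Spec.map_comp, Category.assoc, hφ, specMap_resHom]
      exact congrArg CommaMorphism.left hcomp
    refine ⟨⟨{ φ with commutes' := hφk }, AlgHom.coe_ringHom_injective (hφr.trans hresR.symm)⟩, Subtype.ext ?_⟩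
    change Z.1.comap _ = J.1
    rw [← hu, hilbPull_eq]
    exact congrArg (fun u => Z.1.comap (PicF.XTmap x u)) (Over.OverMorphism.ext hφ)

end Groth.Agent.HilbLoc.Rep
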